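import Cfsg.Agent.Fusion.Tate
import Cfsg.Agent.Layer.FStar
import Cfsg.Agent.Core.MinimalNormal
import Cfsg.Agent.Core.Gaschutz
import Cfsg.Agent.Core.PCore
import Mathlib.GroupTheory.Transfer

/-!
Groups with trivial `p'`-core whose Sylow `p`-subgroup is nonabelian, two-generated, and has
core-free Frattini subgroup.
-/

namespace Cfsg.Agent.TwoGenSylow

open Subgroup
open scoped commutatorElement

universe u

section PGroupFacts

variable {X : Type u} [Group X] [Finite X] {p : ℕ} [Fact p.Prime]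

theorem commutative_of_closure_pair {a b : X} (h : closure ({a, b} : Set X) = ⊤)
    (hab : Commute a b) : IsMulCommutative X := by
  have h1 : closure ({a, b} : Set X) ≤ centralizer ({a, b} : Set X) := by
    rw [closure_le]
    rintro x (rfl | rfl) <;> refine mem_centralizer_iff.mpr ?_ <;> rintro y (rfl | rfl)
    exacts [rfl, hab.eq.symm, hab.eq, rfl]
  rw [h, top_le_iff] at h1
  have h2 : closure ({a, b} : Set X) ≤ center X := by
    rw [closure_le]
    intro x hx
    refine mem_center_iff.mpr fun y => ?_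
    exact ((mem_centralizer_iff.mp (h1 ▸ mem_top y : y ∈ centralizer ({a, b} : Set X))) x hx).symm
  rw [h, top_le_iff] at h2
  exact ⟨⟨fun x y => ((mem_center_iff.mp (h2 ▸ mem_top x : x ∈ center X)) y).symm⟩⟩

/-- In a noncommutative two-generated `p`-group every element outside the Frattini subgroup is a
member of a generating pair. -/
theorem exists_closure_pair (hna : ¬ IsMulCommutative X) (hgen : (frattini X).index = p ^ 2)
    {a : X} (ha : a ∉ frattini X) : ∃ b : X, closure ({a, b} : Set X) = ⊤ := by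
  have hp : p.Prime := Fact.out
  set K := zpowers a ⊔ frattini X with hK
  have hlt : frattini X < K := lt_of_le_of_ne le_sup_right fun e =>
    ha (e ▸ mem_sup_left (mem_zpowers a))
  have hidx : K.index ∣ p ^ 2 := hgen ▸ index_dvd_of_le hlt.le
  have hlt' : K.index < p ^ 2 := by
    have := index_strictAnti hlt
    omega
  have hKne : K ≠ ⊤ := fun e => hna <| by
    have h1 : zpowers a = ⊤ := frattini_nongenerating e
    exact ⟨⟨fun x y => by
      obtain ⟨i, rfl⟩ := mem_zpowers_iff.mp (h1 ▸ mem_top x : x ∈ zpowers a)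
      obtain ⟨j, rfl⟩ := mem_zpowers_iff.mp (h1 ▸ mem_top y : y ∈ zpowers a)
      exact ((Commute.refl a).zpow_zpow i j).eq⟩⟩
  obtain ⟨b, hb⟩ : ∃ b, b ∉ K := by
    by_contra h
    push Not at h
    exact hKne (eq_top_iff.mpr fun x _ => h x)
  refine ⟨b, frattini_nongenerating ?_⟩
  have hKi : K.index = p := by
    obtain ⟨i, hi, he⟩ := (Nat.dvd_prime_pow hp).mp hidx
    have h1 : i ≠ 0 := fun h0 => hKne (index_eq_one.mp (by rw [he, h0, pow_zero]))
    have h2 : i ≠ 2 := fun h0 => by rw [he, h0] at hlt'; exact hlt'.false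
    rw [he, show i = 1 by omega, pow_one]
  set L := K ⊔ zpowers b with hL
  have hKL : K < L := lt_of_le_of_ne le_sup_left fun e => hb (e ▸ mem_sup_right (mem_zpowers b))
  have hLi : L.index = 1 := by
    rcases (Nat.dvd_prime hp).mp (hKi ▸ index_dvd_of_le hKL.le) with h | h
    · exact h
    · exact absurd (index_strictAnti hKL) (by rw [h, hKi]; exact lt_irrefl _)
  rw [index_eq_one] at hLi
  rw [eq_top_iff, ← hLi, hL, hK, zpowers_eq_closure, zpowers_eq_closure]
  refine sup_le (sup_le ?_ le_sup_right) ?_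
  · exact (Subgroup.closure_mono (by simp)).trans le_sup_left
  · exact (Subgroup.closure_mono (by simp)).trans le_sup_left

/-- A normal subgroup outside the Frattini subgroup has cyclic quotient. -/
theorem exists_sup_zpowers_eq_top (hna : ¬ IsMulCommutative X)
    (hgen : (frattini X).index = p ^ 2) {Q : Subgroup X} (hQ : ¬ Q ≤ frattini X) :
    ∃ t : X, Q ⊔ zpowers t = ⊤ := by
  obtain ⟨a, haQ, ha⟩ := SetLike.not_le_iff_exists.mp hQ
  obtain ⟨t, ht⟩ := exists_closure_pair hna hgen ha
  refine ⟨t, eq_top_iff.mpr (ht ▸ (closure_le _).mpr ?_)⟩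
  rintro x (rfl | rfl)
  · exact mem_sup_left haQ
  · exact mem_sup_right (mem_zpowers x)

/-- A normal subgroup outside the Frattini subgroup contains the derived subgroup. -/
theorem commutatorElement_mem (hna : ¬ IsMulCommutative X) (hgen : (frattini X).index = p ^ 2)
    {Q : Subgroup X} [Q.Normal] (hQ : ¬ Q ≤ frattini X) (x y : X) : ⁅x, y⁆ ∈ Q := by
  obtain ⟨t, ht⟩ := exists_sup_zpowers_eq_top hna hgen hQ
  have h : ∀ z : X, (QuotientGroup.mk' Q) z ∈ zpowers (QuotientGroup.mk' Q t) := fun z => by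
    have hz : z ∈ Q ⊔ zpowers t := ht ▸ mem_top z
    obtain ⟨q, hq, w, hw, rfl⟩ := mem_sup_of_normal_left.mp hz
    obtain ⟨i, rfl⟩ := mem_zpowers_iff.mp hw
    rw [map_mul, map_zpow, show (QuotientGroup.mk' Q) q = 1 from
      (QuotientGroup.eq_one_iff q).mpr hq, one_mul]
    exact zpow_mem (mem_zpowers _) i
  rw [← QuotientGroup.eq_one_iff, ← QuotientGroup.mk'_apply, map_commutatorElement,
    commutatorElement_eq_one_iff_commute]
  obtain ⟨i, hi⟩ := mem_zpowers_iff.mp (h x)
  obtain ⟨j, hj⟩ := mem_zpowers_iff.mp (h y)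
  rw [← hi, ← hj]
  exact (Commute.refl _).zpow_zpow i j

/-- Two normal subgroups with trivial intersection cannot both be outside the Frattini
subgroup. -/
theorem false_of_two_normal (hna : ¬ IsMulCommutative X) (hgen : (frattini X).index = p ^ 2)
    {Q R : Subgroup X} [Q.Normal] [R.Normal] (hQR : Q ⊓ R = ⊥) (hQ : ¬ Q ≤ frattini X)
    (hR : ¬ R ≤ frattini X) : False :=
  hna ⟨⟨fun x y => commutatorElement_eq_one_iff_mul_comm.mp ((mem_bot).mp
    (hQR ▸ mem_inf.mpr ⟨commutatorElement_mem hna hgen hQ x y,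
      commutatorElement_mem hna hgen hR x y⟩))⟩⟩

end PGroupFacts

variable {G : Type u} [Group G] [Finite G] {p : ℕ} [hp : Fact p.Prime]

theorem normal_subgroupOf_of_normalized {P N : Subgroup G} (h : P ≤ normalizer (N : Set G)) :
    (N.subgroupOf P).Normal :=
  ⟨fun x hx y => by
    rw [mem_subgroupOf] at hx ⊢
    exact (mem_normalizer_iff.mp (h y.2) x).mp hx⟩

theorem isPGroup_of_hasNormalPComplement {X : Type u} [Group X] [Finite X]
    (hcore : pPrimeCore p X = ⊥) (h : HasNormalPComplement p X) : IsPGroup p X := by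
  obtain ⟨R, K, hK, hc⟩ := h
  have hK1 : K = ⊥ := by
    refine le_bot_iff.mp (hcore ▸ Core.le_pPrimeCore ?_)
    rw [← hc.index_eq_card]
    exact (Nat.coprime_comm.mpr ((Nat.Prime.coprime_iff_not_dvd hp.out).mpr R.not_dvd_index))
  rw [hK1, isComplement'_bot_left] at hc
  exact (hc ▸ R.2 : IsPGroup p (⊤ : Subgroup X)).of_equiv topEquiv

theorem pPrimeCore_normal_eq_bot (hcore : pPrimeCore p G = ⊥) (N : Subgroup G) [N.Normal] :
    pPrimeCore p N = ⊥ := by
  refine (map_eq_bot_iff_of_injective _ N.subtype_injective).mp ?_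
  rw [Core.map_pPrimeCore_normal, hcore, bot_inf_eq]

/-- A subgroup normal in a normal subgroup has trivial `p'`-core. -/
theorem pPrimeCore_subnormal_eq_bot (hcore : pPrimeCore p G = ⊥) {N M : Subgroup G} [N.Normal]
    (hMN : M ≤ N) (hN : N ≤ normalizer (M : Set G)) : pPrimeCore p M = ⊥ := by
  haveI := normal_subgroupOf_of_normalized hN
  have h := pPrimeCore_normal_eq_bot (pPrimeCore_normal_eq_bot hcore N) (M.subgroupOf N)
  rw [← Core.map_pPrimeCore (subgroupOfEquivOfLe hMN), h, Subgroup.map_bot]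

/-- If `N` is normalized by `P` and is not a `p`-group, while its `p'`-core is trivial, then
`N ⊓ P` is not contained in the Frattini subgroup of `P`. -/
theorem not_le_frattini (P : Sylow p G) {N : Subgroup G}
    (hPN : (P : Subgroup G) ≤ normalizer (N : Set G))
    (hcore : pPrimeCore p N = ⊥) (hN : ¬ IsPGroup p N) :
    ¬ N.subgroupOf P ≤ frattini ↥(P : Subgroup G) := by
  intro h
  apply hN
  apply isPGroup_of_hasNormalPComplement hcore
  set H := (P : Subgroup G) ⊔ N with hH
  have hHn : H ≤ normalizer (N : Set G) := sup_le hPN le_normalizer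
  haveI := normal_subgroupOf_of_normalized hHn
  let S : Sylow p H := P.subtype le_sup_left
  have hScoe : (S : Subgroup H) = (P : Subgroup G).subgroupOf H := Sylow.coe_subtype _ _
  have key := Fusion.hasNormalPComplement_of_normal_inf_le_frattini S (N.subgroupOf H) (by
    rintro z ⟨hzN, hzS⟩
    rw [SetLike.mem_coe, hScoe] at hzS
    let e : (P : Subgroup G) ≃* (S : Subgroup H) :=
      (subgroupOfEquivOfLe (le_sup_left : (P : Subgroup G) ≤ H)).symm.trans
        (MulEquiv.subgroupCongr hScoe.symm)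
    have hy : (⟨(z : G), hzS⟩ : (P : Subgroup G)) ∈ frattini ↥(P : Subgroup G) := h hzN
    exact ⟨e ⟨(z : G), hzS⟩, Core.map_frattini_le_of_surjective (f := e.toMonoidHom) e.surjective
      ⟨_, hy, rfl⟩, rfl⟩)
  exact Fusion.hasNormalPComplement_of_injective
    (subgroupOfEquivOfLe (le_sup_right : N ≤ H)).symm.toMonoidHom (MulEquiv.injective _) key

section Global

variable (P : Sylow p G)

/-- Every nontrivial normal subgroup meets `P` outside the Frattini subgroup. -/
theorem normal_not_le_frattini (hcore : pPrimeCore p G = ⊥)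
    (hfrat : ((frattini ↥(P : Subgroup G)).map (P : Subgroup G).subtype).normalCore = ⊥)
    (N : Subgroup G) [hN : N.Normal] (hne : N ≠ ⊥) :
    ¬ N.subgroupOf P ≤ frattini ↥(P : Subgroup G) := by
  by_cases hpN : IsPGroup p N
  · intro h
    apply hne
    refine le_bot_iff.mp (hfrat ▸ normal_le_normalCore.mpr ?_)
    intro x hx
    have hxP : x ∈ (P : Subgroup G) := (Core.le_pCore hpN).trans (Core.pCore_le_sylow P) hx
    exact ⟨⟨x, hxP⟩, h hx, rfl⟩
  · exact not_le_frattini P (normalizer_eq_top (H := N) ▸ le_top)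
      (pPrimeCore_normal_eq_bot hcore N) hpN

/-- The minimal normal subgroup is unique. -/
theorem exists_unique_minNormal [Nontrivial G] (hna : ¬ IsMulCommutative (P : Subgroup G))
    (hgen : (frattini ↥(P : Subgroup G)).index = p ^ 2) (hcore : pPrimeCore p G = ⊥)
    (hfrat : ((frattini ↥(P : Subgroup G)).map (P : Subgroup G).subtype).normalCore = ⊥) :
    ∃ N : Subgroup G, Core.IsMinNormal N ∧ ∀ K : Subgroup G, K.Normal → K ≠ ⊥ → N ≤ K := by
  obtain ⟨N, hN⟩ := Core.exists_isMinNormal (G := G)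
  haveI := hN.normal
  refine ⟨N, hN, fun K hK hKne => (hN.le_or_inf_eq_bot K).resolve_right fun h => ?_⟩
  refine false_of_two_normal (Q := N.subgroupOf P) (R := K.subgroupOf P) hna hgen ?_
    (normal_not_le_frattini P hcore hfrat N hN.ne_bot) (normal_not_le_frattini P hcore hfrat K hKne)
  refine eq_bot_iff.mpr fun x hx => mem_bot.mpr (Subtype.ext ?_)
  exact mem_bot.mp (h ▸ (show (x : G) ∈ N ⊓ K from ⟨hx.1, hx.2⟩))

/-- A central element of a group with abelian Sylow subgroup lying in it and in the derived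
subgroup is trivial. -/
theorem eq_one_of_mem_center_commutator {X : Type u} [Group X] [Finite X] (S : Sylow p X)
    (hS : IsMulCommutative (S : Subgroup X)) {z : X} (hzS : z ∈ (S : Subgroup X))
    (hzc : z ∈ center X) (hz : z ∈ commutator X) : z = 1 := by
  letI : CommGroup ↥(S : Subgroup X) :=
    { (inferInstance : Group ↥(S : Subgroup X)) with mul_comm := hS.is_comm.comm }
  let φ : ↥(S : Subgroup X) →* ↥(S : Subgroup X) := MonoidHom.id _
  have h1 : MonoidHom.transfer φ z = 1 :=
    MonoidHom.mem_ker.mp (Abelianization.commutator_subset_ker (MonoidHom.transfer φ) hz)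
  have key : ∀ (k : ℕ) (g₀ : X), g₀⁻¹ * z ^ k * g₀ ∈ (S : Subgroup X) →
      g₀⁻¹ * z ^ k * g₀ = z ^ k := fun k g₀ _ => by
    rw [mul_assoc, ← mem_center_iff.mp (pow_mem hzc k) g₀, inv_mul_cancel_left]
  rw [MonoidHom.transfer_eq_pow φ z key] at h1
  have h2 : z ^ (S : Subgroup X).index = 1 := congrArg Subtype.val h1
  obtain ⟨k, hk⟩ := S.2 ⟨z, hzS⟩
  have h3 : z ^ p ^ k = 1 := by simpa using congrArg Subtype.val hk
  have hg : z ^ Nat.gcd (S : Subgroup X).index (p ^ k) = 1 := pow_gcd_eq_one.mpr ⟨h2, h3⟩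
  rwa [(((Nat.Prime.coprime_iff_not_dvd hp.out).mpr S.not_dvd_index).symm.pow_right k).gcd_eq_one,
    pow_one] at hg

/-- The abelian case: the minimal normal subgroup is self-centralizing. -/
theorem centralizer_eq (hna : ¬ IsMulCommutative (P : Subgroup G))
    (hgen : (frattini ↥(P : Subgroup G)).index = p ^ 2) (hcore : pPrimeCore p G = ⊥)
    (hfrat : ((frattini ↥(P : Subgroup G)).map (P : Subgroup G).subtype).normalCore = ⊥)
    {N : Subgroup G} (hN : Core.IsMinNormal N)
    (huniq : ∀ K : Subgroup G, K.Normal → K ≠ ⊥ → N ≤ K) (hc : IsMulCommutative N) :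
    centralizer (N : Set G) = N := by
  haveI := hN.normal
  haveI := hc
  obtain ⟨q, hq, hexp⟩ := hN.exists_prime_pow_eq_one
  haveI : Fact q.Prime := ⟨hq⟩
  have hqp : q = p := by
    by_contra hne
    apply hN.ne_bot
    refine le_bot_iff.mp (hcore ▸ Core.le_pPrimeCore ?_)
    obtain ⟨k, hk⟩ := IsPGroup.iff_card.mp (Core.isPGroup_of_forall_pow_eq_one hexp)
    rw [hk]
    exact Nat.Coprime.pow_left k ((Nat.coprime_primes hq hp.out).mpr hne)
  subst hqp
  have hNP : N ≤ (P : Subgroup G) :=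
    (Core.le_pCore (Core.isPGroup_of_forall_pow_eq_one hexp)).trans (Core.pCore_le_sylow P)
  obtain ⟨t, ht⟩ := exists_sup_zpowers_eq_top hna hgen (normal_not_le_frattini P hcore hfrat N hN.ne_bot)
  have hdec : ∀ x ∈ (P : Subgroup G), ∃ n ∈ N, ∃ i : ℤ, x = n * (t : G) ^ i := by
    intro x hx
    have hxm : (⟨x, hx⟩ : (P : Subgroup G)) ∈ N.subgroupOf P ⊔ zpowers t := ht ▸ mem_top _
    obtain ⟨n, hn, w, hw, he⟩ := mem_sup_of_normal_left.mp hxm
    obtain ⟨i, rfl⟩ := mem_zpowers_iff.mp hw
    exact ⟨n, hn, i, by simpa using (congrArg Subtype.val he).symm⟩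
  set C := centralizer (N : Set G) with hC
  have hNC : N ≤ C := le_centralizer_iff_isMulCommutative.mpr hc
  have hcomC : ∀ x ∈ C, ∀ n ∈ N, Commute n x := fun x hx n hn => mem_centralizer_iff.mp hx n hn
  -- `P ⊓ C` is commutative
  have hPC : ∀ x ∈ (P : Subgroup G) ⊓ C, ∀ y ∈ (P : Subgroup G) ⊓ C, Commute x y := by
    rintro x ⟨hxP, hxC⟩ y ⟨hyP, hyC⟩
    obtain ⟨n, hn, i, rfl⟩ := hdec x hxP
    obtain ⟨m, hm, j, rfl⟩ := hdec y hyP
    have hti : (t : G) ^ i ∈ C := (mul_mem_cancel_left (hNC hn)).mp hxC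
    have htj : (t : G) ^ j ∈ C := (mul_mem_cancel_left (hNC hm)).mp hyC
    have e1 : Commute n (m * (t : G) ^ j) := hcomC _ hyC n hn
    have e2 : Commute ((t : G) ^ i) (m * (t : G) ^ j) :=
      ((hcomC _ hti m hm).symm).mul_right ((Commute.refl _).zpow_zpow i j)
    exact e1.mul_left e2
  -- every Sylow subgroup of `C` is commutative
  have hSc : ∀ S : Sylow q C, IsMulCommutative (S : Subgroup C) := by
    intro S
    obtain ⟨R, hR⟩ := (S.2.map C.subtype).exists_le_sylow
    obtain ⟨g, hg⟩ := MulAction.exists_smul_eq G R P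
    refine ⟨⟨fun a b => Subtype.ext (Subtype.ext ?_)⟩⟩
    have hmem : ∀ a : (S : Subgroup C), g * (a : C) * g⁻¹ ∈ (P : Subgroup G) ⊓ C := fun a => by
      refine ⟨?_, (inferInstance : C.Normal).conj_mem _ (a : C).2 g⟩
      rw [← hg]
      exact Subgroup.smul_mem_pointwise_smul _ _ _ (hR ⟨_, a.2, rfl⟩)
    have h := (hPC _ (hmem a) _ (hmem b)).eq
    simpa [mul_assoc] using congrArg (fun u => g⁻¹ * u * g) h
  -- `C` is commutative
  have hCc : IsMulCommutative C := by
    by_contra hnc
    have hne : (commutator C).map C.subtype ≠ ⊥ := fun h => hnc <| by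
      rw [map_eq_bot_iff_of_injective _ C.subtype_injective] at h
      exact ⟨⟨fun a b => commutatorElement_eq_one_iff_mul_comm.mp
        (mem_bot.mp (h ▸ commutator_mem_commutator (mem_top a) (mem_top b)))⟩⟩
    have hle := huniq _ inferInstance hne
    obtain ⟨z, hz, hz1⟩ : ∃ z ∈ N, z ≠ 1 := by
      by_contra h
      push Not at h
      exact hN.ne_bot (eq_bot_iff.mpr fun x hx => h x hx)
    obtain ⟨w, hw, hwz⟩ := hle hz
    have hwN : (w : G) ∈ N := by rw [show (w : G) = z from hwz]; exact hz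
    have hNpg : IsPGroup q (N.subgroupOf C) :=
      (Core.isPGroup_of_forall_pow_eq_one hexp).of_equiv (subgroupOfEquivOfLe hNC).symm
    obtain ⟨S, hS⟩ := hNpg.exists_le_sylow
    refine hz1 (hwz ▸ ?_)
    have := eq_one_of_mem_center_commutator S (hSc S) (hS hwN)
      (mem_center_iff.mpr fun y => Subtype.ext ((hcomC _ y.2 _ hwN).eq.symm)) hw
    simp [this]
  haveI := hCc
  -- `C` is a `p`-group inside `P`
  have hCp : IsPGroup q C := isPGroup_of_hasNormalPComplement (pPrimeCore_normal_eq_bot hcore C) <| by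
    obtain ⟨S⟩ := (inferInstance : Nonempty (Sylow q C))
    exact Fusion.hasNormalPComplement_of_normalizer_le_centralizer (P := S)
      fun x _ => mem_centralizer_iff.mpr fun y _ => hCc.is_comm.comm y x
  have hCP : C ≤ (P : Subgroup G) := (Core.le_pCore hCp).trans (Core.pCore_le_sylow P)
  have hcC : ∀ x ∈ C, ∀ y ∈ C, Commute x y := fun x hx y hy =>
    congrArg Subtype.val (hCc.is_comm.comm ⟨x, hx⟩ ⟨y, hy⟩)
  -- `C` has exponent `p`
  have hCexp : ∀ x ∈ C, x ^ q = 1 := by
    by_contra h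
    push Not at h
    obtain ⟨x₀, hx₀, hx₀ne⟩ := h
    let Cp : Subgroup G := closure {y | ∃ x ∈ C, x ^ q = y}
    haveI : Cp.Normal := by
      refine ⟨fun y hy g => ?_⟩
      have : Cp ≤ Cp.comap (MulAut.conj g).toMonoidHom := (closure_le _).mpr fun y hy => by
        obtain ⟨x, hx, rfl⟩ := hy
        exact subset_closure ⟨g * x * g⁻¹, (inferInstance : C.Normal).conj_mem x hx g, conj_pow⟩
      exact this hy
    have hne : Cp ≠ ⊥ := fun e =>
      hx₀ne (mem_bot.mp (e ▸ subset_closure ⟨x₀, hx₀, rfl⟩ : x₀ ^ q ∈ (⊥ : Subgroup G)))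
    have hCpt : Cp ≤ zpowers (t : G) := (closure_le _).mpr fun y hy => by
      obtain ⟨x, hx, rfl⟩ := hy
      obtain ⟨n, hn, i, rfl⟩ := hdec x (hCP hx)
      have hti : (t : G) ^ i ∈ C := (mul_mem_cancel_left (hNC hn)).mp hx
      rw [(hcC _ (hNC hn) _ hti).mul_pow, hexp n hn, one_mul]
      exact pow_mem (zpow_mem (mem_zpowers _) i) q
    have hNt : N ≤ zpowers (t : G) := (huniq Cp inferInstance hne).trans hCpt
    apply hna
    refine ⟨⟨fun x y => Subtype.ext ?_⟩⟩
    have hall : ∀ z ∈ (P : Subgroup G), z ∈ zpowers (t : G) := fun z hz => by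
      obtain ⟨n, hn, i, rfl⟩ := hdec z hz
      exact mul_mem (hNt hn) (zpow_mem (mem_zpowers _) i)
    obtain ⟨i, hi⟩ := mem_zpowers_iff.mp (hall _ x.2)
    obtain ⟨j, hj⟩ := mem_zpowers_iff.mp (hall _ y.2)
    show (x : G) * y = y * x
    rw [← hi, ← hj]
    exact ((Commute.refl _).zpow_zpow i j).eq
  -- `C = N`
  refine le_antisymm (fun x hx => ?_) hNC
  by_contra hxN
  obtain ⟨n, hn, i, rfl⟩ := hdec x (hCP hx)
  set s := (t : G) ^ i with hs_def
  have hsC : s ∈ C := (mul_mem_cancel_left (hNC hn)).mp hx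
  have hsN : s ∉ N := fun h => hxN (mul_mem hn h)
  have hcard : ∀ y ∈ zpowers (t : G), y ^ q = 1 → y ≠ 1 → zpowers y = zpowers s := by
    intro y hy hyq hy1
    haveI : Finite (zpowers (t : G)) := inferInstance
    have hsq : s ^ q = 1 := hCexp s hsC
    have hs1 : s ≠ 1 := fun h => hsN (h ▸ N.one_mem)
    have hst : s ∈ zpowers (t : G) := ⟨i, rfl⟩
    let T := zpowers (t : G)
    letI : CommGroup T := IsCyclic.commGroup
    let kerq : Subgroup T := (powMonoidHom q : T →* T).ker
    have hle : ∀ w : T, (w : G) ^ q = 1 → w ≠ 1 → zpowers w = kerq := by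
      intro w hw hw1
      have hwq : w ^ q = 1 := Subtype.ext (by simpa using hw)
      refine eq_of_le_of_card_ge (zpowers_le.mpr hwq) ?_
      rw [Nat.card_zpowers, orderOf_eq_prime hwq hw1]
      show Nat.card (powMonoidHom q : T →* T).ker ≤ q
      rw [IsCyclic.card_powMonoidHom_ker]
      exact Nat.le_of_dvd hq.pos (Nat.gcd_dvd_right _ _)
    have h1 : zpowers (⟨y, hy⟩ : T) = zpowers (⟨s, hst⟩ : T) :=
      (hle ⟨y, hy⟩ hyq (fun h => hy1 (congrArg Subtype.val h))).trans
        (hle ⟨s, hst⟩ hsq (fun h => hs1 (congrArg Subtype.val h))).symm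
    simpa [T] using congrArg (Subgroup.map T.subtype) h1
  have hdisj : zpowers (t : G) ⊓ N = ⊥ := by
    refine eq_bot_iff.mpr fun y hy => mem_bot.mpr ?_
    by_contra hy1
    refine hsN ?_
    have := hcard y hy.1 (hexp y hy.2) hy1
    exact zpowers_le.mpr hy.2 (this ▸ mem_zpowers s)
  have hsup : N ⊔ zpowers (t : G) = (P : Subgroup G) := by
    refine le_antisymm (sup_le hNP (zpowers_le.mpr t.2)) fun z hz => ?_
    obtain ⟨m, hm, j, rfl⟩ := hdec z hz
    exact mul_mem (mem_sup_left hm) (mem_sup_right ⟨j, rfl⟩)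
  have hcop : (Nat.card N).Coprime (P : Subgroup G).index := by
    obtain ⟨k, hk⟩ := IsPGroup.iff_card.mp (Core.isPGroup_of_forall_pow_eq_one hexp)
    rw [hk]
    exact ((Nat.Prime.coprime_iff_not_dvd hp.out).mpr P.not_dvd_index).pow_left k
  obtain ⟨H, hH⟩ := Core.gaschutz_exists hNP hcop (zpowers_le.mpr t.2) hdisj hsup
  haveI : (C ⊓ H).Normal := by
    refine ⟨fun z hz g => ?_⟩
    obtain ⟨⟨⟨m, hm⟩, ⟨h, hh⟩⟩, rfl⟩ := hH.2 g
    show m * h * z * (m * h)⁻¹ ∈ C ⊓ H
    have h1 : h * z * h⁻¹ ∈ C ⊓ H :=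
      ⟨(inferInstance : C.Normal).conj_mem z hz.1 h, H.mul_mem (H.mul_mem hh hz.2) (H.inv_mem hh)⟩
    have h2 : m * (h * z * h⁻¹) * m⁻¹ = h * z * h⁻¹ := by
      rw [(hcC m (hNC hm) _ h1.1).eq, mul_inv_cancel_right]
    rw [← h2] at h1
    simpa [mul_assoc] using h1
  have hCH : C ⊓ H = ⊥ := by
    by_contra hne
    have h1 : N ≤ H := (huniq _ inferInstance hne).trans inf_le_right
    exact hN.ne_bot (disjoint_self.mp (hH.disjoint.mono_right h1))
  obtain ⟨⟨⟨m, hm⟩, ⟨h, hh⟩⟩, he⟩ := hH.2 s
  have he' : m * h = s := he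
  have hh1 : h = 1 := mem_bot.mp (hCH ▸ mem_inf.mpr
    ⟨(mul_mem_cancel_left (hNC hm)).mp (he' ▸ hsC), hh⟩)
  rw [hh1, mul_one] at he'
  exact hsN (he' ▸ hm)

/-- The generalized Fitting subgroup is the unique minimal normal subgroup. -/
theorem generalizedFitting_eq (hna : ¬ IsMulCommutative (P : Subgroup G))
    (hgen : (frattini ↥(P : Subgroup G)).index = p ^ 2) (hcore : pPrimeCore p G = ⊥)
    (hfrat : ((frattini ↥(P : Subgroup G)).map (P : Subgroup G).subtype).normalCore = ⊥)
    [(generalizedFittingSubgroup G).Normal]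
    {N : Subgroup G} (hN : Core.IsMinNormal N)
    (huniq : ∀ K : Subgroup G, K.Normal → K ≠ ⊥ → N ≤ K) :
    generalizedFittingSubgroup G = N := by
  haveI := hN.normal
  have hFne : generalizedFittingSubgroup G ≠ ⊥ := by
    haveI : Nontrivial G := by
      by_contra h
      rw [not_nontrivial_iff_subsingleton] at h
      exact hN.ne_bot (Subsingleton.elim _ _)
    exact Layer.generalizedFitting_ne_bot
  refine le_antisymm ?_ (huniq _ inferInstance hFne)
  by_cases hc : IsMulCommutative N
  · haveI := hc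
    have hC := centralizer_eq P hna hgen hcore hfrat hN huniq hc
    have hNF : N ≤ fittingSubgroup G := Core.le_fittingSubgroup_of_isMulCommutative
    refine sup_le ?_ ?_
    · rw [← hC]
      exact Layer.layer_le_centralizer_fitting.trans
        (centralizer_le (show (N : Set G) ⊆ fittingSubgroup G from hNF))
    · rw [← hC, le_centralizer_iff]
      have hZne : (center ↥(fittingSubgroup G)).map (fittingSubgroup G).subtype ≠ ⊥ := by
        rw [Ne, map_eq_bot_iff_of_injective _ (fittingSubgroup G).subtype_injective]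
        haveI : Nontrivial ↥(fittingSubgroup G) :=
          (Subgroup.nontrivial_iff_ne_bot _).mpr (ne_bot_of_le_ne_bot hN.ne_bot hNF)
        exact (Group.IsNilpotent.center_ne_bot (fittingSubgroup G))
      refine (huniq _ inferInstance hZne).trans ?_
      rintro _ ⟨z, hz, rfl⟩
      exact mem_centralizer_iff.mpr fun y hy =>
        congrArg Subtype.val (mem_center_iff.mp hz ⟨y, hy⟩)
  · have hC : centralizer (N : Set G) = ⊥ := by
      by_contra hne
      exact hc (le_centralizer_iff_isMulCommutative.mp (huniq _ inferInstance hne))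
    refine sup_le (sSup_le fun L hL => ?_) ?_
    · rcases Layer.component_le_or_commute hL hN.normal.isSubnormal with h | h
      · exact h
      · exfalso
        exact Layer.qs_subgroup_ne_bot hL.2 (le_bot_iff.mp (hC ▸
          commutator_eq_bot_iff_le_centralizer.mp h))
    · have : fittingSubgroup G = ⊥ := by
        by_contra hne
        have hle := huniq _ inferInstance hne
        haveI : Group.IsNilpotent N :=
          (Group.isNilpotent_congr (subgroupOfEquivOfLe hle)).mp inferInstance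
        exact hc hN.isMulCommutative
      rw [this]
      exact bot_le

/-- When `F*(G)` is nonabelian, `P` is transitive on the components. -/
theorem exists_conj_component (hna : ¬ IsMulCommutative (P : Subgroup G))
    (hgen : (frattini ↥(P : Subgroup G)).index = p ^ 2) (hcore : pPrimeCore p G = ⊥)
    {K L : Subgroup G} (hK : IsComponent K) (hL : IsComponent L) (hlayer : (layer G).Normal)
    (hC : centralizer (layer G : Set G) = ⊥) :
    ∃ x ∈ (P : Subgroup G), L = K.map (MulAut.conj x).toMonoidHom := by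
  by_contra hLK
  haveI := hlayer
  let A : Set (Subgroup G) := {M | ∃ x ∈ (P : Subgroup G), M = K.map (MulAut.conj x).toMonoidHom}
  let B : Set (Subgroup G) := {M | IsComponent M ∧ M ∉ A}
  have hKA : K ∈ A := ⟨1, one_mem _, by
    ext z
    simp⟩
  have hAc : ∀ M ∈ A, IsComponent M := fun M ⟨x, _, hM⟩ => hM ▸ Layer.isComponent_map_conj hK x
  have hLB : L ∈ B := ⟨hL, hLK⟩
  have hAinv : ∀ M ∈ A, ∀ x ∈ (P : Subgroup G), M.map (MulAut.conj x).toMonoidHom ∈ A := by
    rintro M ⟨y, hy, rfl⟩ x hx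
    refine ⟨x * y, mul_mem hx hy, ?_⟩
    rw [map_map]
    congr 1
    ext z
    simp [mul_assoc]
  have hBinv : ∀ M ∈ B, ∀ x ∈ (P : Subgroup G), M.map (MulAut.conj x).toMonoidHom ∈ B := by
    rintro M ⟨hM, hMA⟩ x hx
    refine ⟨Layer.isComponent_map_conj hM x, fun h => hMA ?_⟩
    have h' := hAinv _ h x⁻¹ (inv_mem hx)
    rw [map_map] at h'
    convert h' using 1
    conv_lhs => rw [← map_id M]
    congr 1
    ext z
    simp [mul_assoc]
  have hnorm : ∀ s : Set (Subgroup G), (∀ M ∈ s, ∀ x ∈ (P : Subgroup G),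
      M.map (MulAut.conj x).toMonoidHom ∈ s) → (P : Subgroup G) ≤ normalizer ((sSup s : Subgroup G) : Set G) := by
    intro s hs
    have key : ∀ x ∈ (P : Subgroup G), ∀ z ∈ sSup s, x * z * x⁻¹ ∈ sSup s := fun x hx =>
      (sSup_le fun M hM => map_le_iff_le_comap.mp (le_sSup (hs M hM x hx)) :
        sSup s ≤ (sSup s).comap (MulAut.conj x).toMonoidHom)
    intro x hx
    refine mem_normalizer_iff.mpr fun z => ⟨key x hx z, fun h => ?_⟩
    simpa [mul_assoc] using key x⁻¹ (inv_mem hx) _ h
  have hlay : ∀ s : Set (Subgroup G), (∀ M ∈ s, IsComponent M) →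
      layer G ≤ normalizer ((sSup s : Subgroup G) : Set G) := by
    intro s hs
    have key : ∀ x ∈ layer G, ∀ z ∈ sSup s, x * z * x⁻¹ ∈ sSup s := fun x hx =>
      (sSup_le fun M hM z hz => le_sSup hM
        ((mem_normalizer_iff.mp (Layer.layer_le_normalizer_component (hs M hM) hx) z).mp hz) :
        sSup s ≤ (sSup s).comap (MulAut.conj x).toMonoidHom)
    intro x hx
    refine mem_normalizer_iff.mpr fun z => ⟨key x hx z, fun h => ?_⟩
    simpa [mul_assoc] using key x⁻¹ (inv_mem hx) _ h
  have hBc : ∀ M ∈ B, IsComponent M := fun M hM => hM.1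
  have hcomm : sSup A ≤ centralizer ((sSup B : Subgroup G) : Set G) := by
    refine sSup_le fun M hM => le_centralizer_iff.mp (sSup_le fun M' hM' => le_centralizer_iff.mp ?_)
    refine commutator_eq_bot_iff_le_centralizer.mp ?_
    refine Layer.components_commute (hAc M hM) hM'.1 ?_
    rintro rfl
    exact hM'.2 hM
  have hdisj : sSup A ⊓ sSup B = ⊥ := by
    refine le_bot_iff.mp (hC ▸ ?_)
    refine le_centralizer_iff.mp (sSup_le fun M hM => le_centralizer_iff.mp ?_)
    by_cases hMA : M ∈ A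
    · exact inf_le_right.trans
        ((le_centralizer_iff.mp hcomm).trans (centralizer_le (le_sSup hMA : M ≤ sSup A)))
    · exact inf_le_left.trans
        (hcomm.trans (centralizer_le (le_sSup (show M ∈ B from ⟨hM, hMA⟩) : M ≤ sSup B)))
  have hnp : ∀ s : Set (Subgroup G), (∀ M ∈ s, IsComponent M) → s.Nonempty →
      ¬ IsPGroup p (sSup s : Subgroup G) := by
    rintro s hs ⟨M, hM⟩ h
    haveI : Group.IsNilpotent M := ((h.to_le (le_sSup hM : M ≤ sSup s))).isNilpotent
    exact Layer.qs_not_isSolvable (hs M hM).2 inferInstance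
  have hside : ∀ s : Set (Subgroup G), (∀ M ∈ s, IsComponent M) → s.Nonempty →
      (∀ M ∈ s, ∀ x ∈ (P : Subgroup G), M.map (MulAut.conj x).toMonoidHom ∈ s) →
      ¬ (sSup s : Subgroup G).subgroupOf P ≤ frattini ↥(P : Subgroup G) := fun s hs hne hinv =>
    not_le_frattini P (hnorm s hinv)
      (pPrimeCore_subnormal_eq_bot hcore (N := layer G)
        (sSup_le fun M hM => Layer.component_le_layer (hs M hM)) (hlay s hs))
      (hnp s hs hne)
  haveI := normal_subgroupOf_of_normalized (hnorm A hAinv)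
  haveI := normal_subgroupOf_of_normalized (hnorm B hBinv)
  refine false_of_two_normal (Q := (sSup A : Subgroup G).subgroupOf P)
    (R := (sSup B : Subgroup G).subgroupOf P) hna hgen ?_ (hside A hAc ⟨K, hKA⟩ hAinv)
    (hside B hBc ⟨L, hLB⟩ hBinv)
  refine eq_bot_iff.mpr fun x hx => mem_bot.mpr (Subtype.ext ?_)
  exact mem_bot.mp (hdisj ▸ (show (x : G) ∈ sSup A ⊓ sSup B from ⟨hx.1, hx.2⟩))

end Global

end Cfsg.Agent.TwoGenSylow
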